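import Cfsg.Agent.H14.Bender.Defs
import Cfsg.Agent.H28.StronglyEmbedded
import Cfsg.Prelude.Def_EvenType

/-!
From a strongly embedded subgroup of a group of 2-rank at least two to a faithful rich setting,
and back to solvability of the subgroup.
-/

set_option autoImplicit false
set_option linter.unusedSectionVars false

namespace Cfsg.Agent.H6.SESolvable

open Cfsg.Agent.H14.Bender

universe u

variable {G : Type u} [Group G] [Finite G]

/-- Strong embedding in the sense of the generated core gives it in the usual sense. -/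
theorem isStronglyEmbedded_of_two (H : Subgroup G) (hH : Cfsg.IsStronglyPEmbedded 2 H) :
    Cfsg.IsStronglyEmbedded H ∧ ∃ S : Sylow 2 G, (S : Subgroup G) ≤ H := by
  have : Fact (Nat.Prime 2) := ⟨Nat.prime_two⟩
  obtain ⟨hd, hne, P, hP⟩ := hH
  have hP1 : (P : Subgroup G) ≠ ⊥ := P.ne_bot_of_dvd_card hd
  have hN : ∀ Q : Subgroup G, Q ≤ (P : Subgroup G) → Q ≠ ⊥ →
      Subgroup.normalizer (Q : Set G) ≤ H := by
    intro Q hQ hQ1
    have hr : ¬ Cfsg.PRankLE 2 (1 - 1) ↥Q := by
      intro h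
      obtain ⟨t, htQ, ht⟩ := Cfsg.Agent.H28.exists_involution_of_isPGroup (P.2.to_le hQ) hQ1
      have hz : IsMulCommutative (Subgroup.zpowers (⟨t, htQ⟩ : Q)) := inferInstance
      have ht' : orderOf (⟨t, htQ⟩ : Q) = 2 := by rwa [Subgroup.orderOf_mk]
      have := h (Subgroup.zpowers (⟨t, htQ⟩ : Q)) hz (fun a ha => by
        obtain ⟨k, rfl⟩ := Subgroup.mem_zpowers_iff.1 ha
        rw [← zpow_natCast, ← zpow_mul, mul_comm, zpow_mul, zpow_natCast,
          orderOf_dvd_iff_pow_eq_one.1 ht'.dvd, one_zpow])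
      rw [Nat.card_zpowers, ht'] at this
      norm_num at this
    exact (le_iSup (fun Q : {Q : Subgroup G // Q ≤ (P : Subgroup G) ∧ ¬ Cfsg.PRankLE 2 (1 - 1) ↥Q} =>
      Subgroup.normalizer ((Q : Subgroup G) : Set G)) ⟨Q, hQ, hr⟩).trans hP
  have hPH : (P : Subgroup G) ≤ H := Subgroup.le_normalizer.trans (hN _ le_rfl hP1)
  refine ⟨?_, P, hPH⟩
  refine Cfsg.Agent.H28.isStronglyEmbedded_of_normalizer_le hne (P.subtype hPH) ?_ ?_
  · rw [Sylow.coe_subtype]
    intro h
    exact hP1 (by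
      have := Subgroup.subgroupOf_eq_bot.1 h
      exact eq_bot_iff.2 fun x hx => this.le_bot ⟨hx, hPH hx⟩)
  · intro X hX hX1
    rw [Sylow.coe_subtype] at hX
    refine hN _ ?_ ?_
    · rintro _ ⟨x, hx, rfl⟩
      exact hX hx
    · rwa [Ne, Subgroup.map_eq_bot_iff_of_injective _ H.subtype_injective]

/-- The core of a strongly embedded subgroup has odd order. -/
theorem odd_normalCore {H : Subgroup G} (hSE : Cfsg.IsStronglyEmbedded H) :
    Odd (Nat.card H.normalCore) := by
  rw [← Nat.not_even_iff_odd]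
  intro he
  obtain ⟨t, htK, ht⟩ := Cfsg.Agent.H28.exists_involution_mem he
  refine hSE.1 (eq_top_iff.2 fun g _ => ?_)
  have : g⁻¹ * t * g ∈ H.normalCore := by
    simpa using H.normalCore_normal.conj_mem t htK g⁻¹
  exact Cfsg.Agent.H28.mem_of_isStronglyEmbedded hSE (H.normalCore_le htK) ht
    (H.normalCore_le this)

/-- The permutation group on the cosets of a strongly embedded subgroup. -/
abbrev PG (H : Subgroup G) : Subgroup (Equiv.Perm (G ⧸ H)) := (MulAction.toPermHom G (G ⧸ H)).range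

/-- The quotient map onto the permutation group. -/
noncomputable def toPG (H : Subgroup G) : G →* PG H := (MulAction.toPermHom G (G ⧸ H)).rangeRestrict

theorem toPG_smul (H : Subgroup G) (g : G) (x : G ⧸ H) : toPG H g • x = g • x := rfl

theorem orderOf_conj' (g x : G) : orderOf (g * x * g⁻¹) = orderOf x := by
  simpa using MulEquiv.orderOf_eq (MulAut.conj g) x

theorem ker_toPG (H : Subgroup G) : (toPG H).ker = H.normalCore := by
  rw [toPG, MonoidHom.ker_rangeRestrict, Subgroup.normalCore_eq_ker]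

theorem toPG_surjective (H : Subgroup G) : Function.Surjective (toPG H) :=
  MonoidHom.rangeRestrict_surjective _

/-- Involutions of the permutation group lift to involutions. -/
theorem exists_involution_lift {H : Subgroup G} (hSE : Cfsg.IsStronglyEmbedded H) {y : PG H}
    (hy : orderOf y = 2) : ∃ t : G, orderOf t = 2 ∧ toPG H t = y := by
  obtain ⟨x, rfl⟩ := toPG_surjective H y
  have hx2 : x ^ 2 ∈ H.normalCore := by
    rw [← ker_toPG, MonoidHom.mem_ker, map_pow, ← hy, pow_orderOf_eq_one]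
  set m := Nat.card H.normalCore with hm
  have hmo : Odd m := odd_normalCore hSE
  refine ⟨x ^ m, ?_, ?_⟩
  · have h2 : (x ^ m) ^ 2 = 1 := by
      rw [← pow_mul, mul_comm, pow_mul]
      have : (⟨x ^ 2, hx2⟩ : H.normalCore) ^ m = 1 := pow_card_eq_one'
      exact congrArg Subtype.val this
    refine orderOf_eq_prime h2 fun h1 => ?_
    have : toPG H x ^ m = 1 := by rw [← map_pow, h1, map_one]
    have hd := orderOf_dvd_of_pow_eq_one this
    rw [hy] at hd
    exact Nat.not_even_iff_odd.2 hmo (even_iff_two_dvd.2 hd)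
  · rw [map_pow]
    obtain ⟨k, hk⟩ := hmo
    rw [hk, pow_succ, pow_mul, ← hy, pow_orderOf_eq_one, one_pow, one_mul]

/-- The action on the cosets of a strongly embedded subgroup is a setting. -/
theorem setting {H : Subgroup G} (hH : Cfsg.IsStronglyPEmbedded 2 H) :
    Setting ↥(PG H) (G ⧸ H) := by
  have : Fact (Nat.Prime 2) := ⟨Nat.prime_two⟩
  obtain ⟨hSE, S, hS⟩ := isStronglyEmbedded_of_two H hH
  have huniq : ∀ t : G, orderOf t = 2 → ∀ a b : G, t • (a : G ⧸ H) = a → t • (b : G ⧸ H) = b →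
      (a : G ⧸ H) = b := by
    intro t ht a b ha hb
    rw [MulAction.Quotient.smul_coe, smul_eq_mul, eq_comm, QuotientGroup.eq] at ha hb
    rw [QuotientGroup.eq]
    have ha' : a⁻¹ * t * a ∈ H := by simpa [mul_assoc] using ha
    refine Cfsg.Agent.H28.mem_of_isStronglyEmbedded hSE ha' ?_ ?_
    · rw [show a⁻¹ * t * a = a⁻¹ * t * (a⁻¹)⁻¹ by simp, orderOf_conj', ht]
    · simpa [mul_assoc] using hb
  refine ⟨?_, ?_, ?_, ?_, ?_⟩
  · intro x y
    obtain ⟨g, hg⟩ := MulAction.exists_smul_eq G x y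
    exact ⟨toPG H g, hg⟩
  · intro g hg
    exact Subtype.ext (Equiv.ext hg)
  · intro x
    obtain ⟨a, rfl⟩ := QuotientGroup.mk_surjective x
    obtain ⟨g, hg⟩ : ∃ g : G, g ∉ H := by
      by_contra h
      push Not at h
      exact hSE.1 (eq_top_iff.2 fun g _ => h g)
    refine ⟨((a * g : G) : G ⧸ H), fun h => hg ?_⟩
    rw [eq_comm, QuotientGroup.eq] at h
    simpa [← mul_assoc] using h
  · intro y hy
    obtain ⟨t, ht, rfl⟩ := exists_involution_lift hSE hy
    have hz : IsPGroup 2 (Subgroup.zpowers t) :=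
      IsPGroup.of_card (n := 1) (by rw [Nat.card_zpowers, ht, pow_one])
    obtain ⟨Q, hQ⟩ := hz.exists_le_sylow
    obtain ⟨g, hg⟩ := MulAction.exists_smul_eq G S Q
    refine ⟨(g : G ⧸ H), ?_⟩
    rw [toPG_smul, MulAction.Quotient.smul_coe, smul_eq_mul, eq_comm, QuotientGroup.eq]
    have h1 : t ∈ ((g • S : Sylow 2 G) : Subgroup G) := hg ▸ hQ (Subgroup.mem_zpowers t)
    obtain ⟨s, hs, hst⟩ := h1
    rw [show g⁻¹ * (t * g) = s by
      rw [← hst]; simp [mul_assoc]]
    exact hS hs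
  · intro y hy x z hx hz
    obtain ⟨t, ht, rfl⟩ := exists_involution_lift hSE hy
    obtain ⟨a, rfl⟩ := QuotientGroup.mk_surjective x
    obtain ⟨b, rfl⟩ := QuotientGroup.mk_surjective z
    exact huniq t ht a b hx hz

/-- Two-rank at least two makes the setting rich. -/
theorem rich (hrank : Cfsg.PRankAtLeast 2 2 G) {H : Subgroup G}
    (hH : Cfsg.IsStronglyPEmbedded 2 H) : Rich (G ⧸ H) (⊤ : Subgroup ↥(PG H)) := by
  have : Fact (Nat.Prime 2) := ⟨Nat.prime_two⟩
  have hS := setting hH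
  obtain ⟨hSE, S, -⟩ := isStronglyEmbedded_of_two H hH
  obtain ⟨A, hA, hA2, hAc⟩ := hrank
  obtain ⟨a, b, ha, hb, hab⟩ : ∃ a b : A, a ≠ 1 ∧ b ≠ 1 ∧ a ≠ b := by
    by_contra hcon
    push Not at hcon
    have := Fintype.ofFinite A
    classical
    have hle : (Finset.univ.erase (1 : A)).card ≤ 1 := Finset.card_le_one.2 fun x hx y hy =>
      hcon x y (Finset.ne_of_mem_erase hx) (Finset.ne_of_mem_erase hy)
    rw [Finset.card_erase_of_mem (Finset.mem_univ _), Finset.card_univ] at hle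
    rw [Nat.card_eq_fintype_card] at hAc
    norm_num at hAc
    omega
  have hord : ∀ c : A, c ≠ 1 → orderOf (toPG H (c : G)) = 2 := by
    intro c hc
    refine orderOf_eq_prime (by rw [← map_pow, hA2 c c.2, map_one]) fun h => hc ?_
    have hcK : (c : G) ∈ H.normalCore := by rwa [← ker_toPG, MonoidHom.mem_ker]
    have hd : orderOf (c : G) ∣ Nat.card H.normalCore := Subgroup.orderOf_dvd_natCard _ hcK
    have hd2 : orderOf (c : G) ∣ 2 := orderOf_dvd_of_pow_eq_one (hA2 c c.2)
    rcases (Nat.dvd_prime Nat.prime_two).1 hd2 with h1 | h1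
    · exact Subtype.ext (orderOf_eq_one_iff.1 h1)
    · rw [h1] at hd
      exact absurd (even_iff_two_dvd.2 hd) (Nat.not_even_iff_odd.2 (odd_normalCore hSE))
  refine ⟨⟨toPG H a, trivial, toPG H b, trivial, hord a ha, hord b hb, ?_, ?_⟩, ?_⟩
  · intro h
    have h2 := hord (a * b⁻¹) (fun h' => hab (mul_inv_eq_one.1 h'))
    rw [Subgroup.coe_mul, Subgroup.coe_inv, map_mul, map_inv, h, mul_inv_cancel, orderOf_one] at h2
    norm_num at h2
  · exact (Commute.map (congrArg Subtype.val (hA.is_comm.comm a b)) (toPG H))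
  · obtain ⟨x, hx⟩ := hS.exists_fix _ (hord a ha)
    obtain ⟨z, hz⟩ := hS.exists_ne x
    obtain ⟨g, hg⟩ := hS.exists_smul x z
    refine ⟨x, ⟨_, trivial, hord a ha, hx⟩, z, ⟨g * toPG H a * g⁻¹, trivial, ?_, ?_⟩, hz.symm⟩
    · rw [← hord a ha]
      exact MulEquiv.orderOf_eq (MulAut.conj g) _
    · rw [← hg, mul_smul, mul_smul, inv_smul_smul, hx]

end Cfsg.Agent.H6.SESolvable
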